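import Mathlib.FieldTheory.LinearDisjoint
import Mathlib.FieldTheory.AlgebraicClosure
import Mathlib.FieldTheory.PrimitiveElement
import Mathlib.FieldTheory.IsAlgClosed.AlgebraicClosure
import Mathlib.FieldTheory.Perfect
import Mathlib.RingTheory.Polynomial.GaussLemma
import Mathlib.RingTheory.TensorProduct.Free
import Mathlib.LinearAlgebra.TensorProduct.Tower

/-!
# A regular extension stays a field after an algebraic separable extension
-/

universe u

open scoped TensorProduct
open Polynomial

namespace Groth.Agent.LinDisj26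

variable {K₀ F₀ : Type u} [Field K₀] [Field F₀] [Algebra K₀ F₀]

theorem minpoly_map (h : algebraicClosure K₀ F₀ = ⊥) {Ω : Type u} [Field Ω] [Algebra K₀ Ω]
    [Algebra F₀ Ω] [IsScalarTower K₀ F₀ Ω] {α : Ω} (hα : IsIntegral K₀ α) :
    minpoly F₀ α = (minpoly K₀ α).map (algebraMap K₀ F₀) := by
  have hd := minpoly.dvd_map_of_isScalarTower K₀ F₀ α
  obtain ⟨g, hg⟩ := (Polynomial.mem_lifts _).mp
    (integralClosure.mem_lifts_of_monic_of_dvd_map F₀ (minpoly.monic hα)
      (minpoly.monic hα.tower_top) hd)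
  have hl : minpoly F₀ α ∈ Polynomial.lifts (algebraMap K₀ F₀) := by
    refine (Polynomial.lifts_iff_coeff_lifts _).mpr fun n => ?_
    have hn : (minpoly F₀ α).coeff n ∈ algebraicClosure K₀ F₀ := by
      rw [mem_algebraicClosure_iff', ← hg, coeff_map]
      exact (g.coeff n).2
    rw [h, IntermediateField.mem_bot] at hn
    exact hn
  obtain ⟨q, hq, -, hqm⟩ := Polynomial.lifts_and_degree_eq_and_monic hl (minpoly.monic hα.tower_top)
  refine (Polynomial.eq_of_monic_of_dvd_of_natDegree_le (minpoly.monic hα.tower_top)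
    ((minpoly.monic hα).map _) hd ?_).symm
  rw [natDegree_map, ← hq, natDegree_map]
  exact natDegree_le_of_dvd (minpoly.dvd K₀ α (by
    rw [← aeval_map_algebraMap F₀, hq, minpoly.aeval])) hqm.ne_zero

theorem isField_finite (h : algebraicClosure K₀ F₀ = ⊥) (L : Type u) [Field L] [Algebra K₀ L]
    [FiniteDimensional K₀ L] [Algebra.IsSeparable K₀ L] : IsField (F₀ ⊗[K₀] L) := by
  obtain ⟨α, hα⟩ := Field.exists_primitive_element K₀ L
  let pb : PowerBasis K₀ L := (IntermediateField.adjoin.powerBasis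
    (Algebra.IsIntegral.isIntegral (R := K₀) α)).map
    ((IntermediateField.equivOfEq hα).trans IntermediateField.topEquiv)
  let Ω := AlgebraicClosure F₀
  let ι : L →ₐ[K₀] Ω := IsAlgClosed.lift
  let φ : F₀ ⊗[K₀] L →ₐ[F₀] Ω :=
    Algebra.TensorProduct.lift (Algebra.ofId F₀ Ω) ι fun _ _ => Commute.all _ _
  let b := Algebra.TensorProduct.basis F₀ pb.basis
  have hint : IsIntegral K₀ (ι pb.gen) :=
    (Algebra.IsIntegral.isIntegral pb.gen).map ι
  have hdeg : (minpoly F₀ (ι pb.gen)).natDegree = pb.dim := by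
    rw [minpoly_map h hint, natDegree_map, minpoly.algHom_eq ι ι.injective, pb.natDegree_minpoly]
  have hli : LinearIndependent F₀ (φ ∘ b) := by
    have e : (φ ∘ b) = (fun i : Fin (minpoly F₀ (ι pb.gen)).natDegree => ι pb.gen ^ (i : ℕ))
        ∘ Fin.cast hdeg.symm := by
      funext i
      simp [φ, b, pb.basis_eq_pow]
    rw [e]
    exact (linearIndependent_pow _).comp _ (Fin.cast_injective _)
  have hinj : Function.Injective φ := by
    rw [injective_iff_map_eq_zero]
    intro x hx
    have hs : φ (∑ i, b.repr x i • b i) = 0 := by rw [b.sum_repr]; exact hx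
    simp only [map_sum, map_smul] at hs
    have h0 := Fintype.linearIndependent_iff.mp hli _ hs
    rw [← b.sum_repr x]
    simp [h0]
  haveI : IsDomain (F₀ ⊗[K₀] L) := Function.Injective.isDomain φ.toRingHom hinj
  exact Algebra.TensorProduct.isField_of_isAlgebraic K₀ F₀ L (Or.inr inferInstance)

theorem isField (K : Type u) [Field K] [Algebra K₀ K] [PerfectField K₀] [Algebra.IsAlgebraic K₀ K]
    (h : algebraicClosure K₀ F₀ = ⊥) : IsField (F₀ ⊗[K₀] K) := by
  let ψ : ∀ L : IntermediateField K₀ K, F₀ ⊗[K₀] L →ₐ[F₀] F₀ ⊗[K₀] K :=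
    fun L => Algebra.TensorProduct.map (AlgHom.id F₀ F₀) L.val
  have ψmono : ∀ {L₁ L₂ : IntermediateField K₀ K} (hle : L₁ ≤ L₂) (y : F₀ ⊗[K₀] L₁),
      ψ L₁ y = ψ L₂ (Algebra.TensorProduct.map (AlgHom.id F₀ F₀)
        (IntermediateField.inclusion hle) y) := by
    intro L₁ L₂ hle y
    induction y using TensorProduct.induction_on with
    | zero => simp
    | tmul a b => rfl
    | add a b ha hb => simp only [map_add, ha, hb]
  have key : ∀ x : F₀ ⊗[K₀] K, ∃ L : IntermediateField K₀ K, FiniteDimensional K₀ L ∧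
      ∃ y, ψ L y = x := by
    intro x
    induction x using TensorProduct.induction_on with
    | zero => exact ⟨⊥, inferInstance, 0, map_zero _⟩
    | tmul a b =>
      exact ⟨IntermediateField.adjoin K₀ {b},
        IntermediateField.adjoin.finiteDimensional (Algebra.IsIntegral.isIntegral b),
        a ⊗ₜ ⟨b, IntermediateField.mem_adjoin_simple_self K₀ b⟩, rfl⟩
    | add a b ha hb =>
      obtain ⟨L₁, _, y₁, rfl⟩ := ha
      obtain ⟨L₂, _, y₂, rfl⟩ := hb
      exact ⟨L₁ ⊔ L₂, inferInstance, Algebra.TensorProduct.map (AlgHom.id F₀ F₀)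
          (IntermediateField.inclusion le_sup_left) y₁ +
        Algebra.TensorProduct.map (AlgHom.id F₀ F₀)
          (IntermediateField.inclusion le_sup_right) y₂, by
        rw [map_add, ← ψmono le_sup_left y₁, ← ψmono le_sup_right y₂]⟩
  haveI : Nontrivial (F₀ ⊗[K₀] K) :=
    Algebra.TensorProduct.nontrivial_of_algebraMap_injective_of_isDomain K₀ F₀ K
      (RingHom.injective _) (RingHom.injective _)
  refine ⟨exists_pair_ne _, mul_comm, fun {x} hx => ?_⟩
  obtain ⟨L, _, y, rfl⟩ := key x
  obtain ⟨z, hz⟩ := (isField_finite h L).mul_inv_cancel (show y ≠ 0 from fun e => hx (by simp [e]))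
  exact ⟨ψ L z, ((ψ L).toRingHom.map_mul y z).symm.trans ((congrArg (ψ L).toRingHom hz).trans (ψ L).toRingHom.map_one)⟩

end Groth.Agent.LinDisj26
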